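import Cfsg.Agent.Lib.Helper60.G23.ChkA0
import Cfsg.Agent.Lib.Helper60.G23.ChkA1
import Cfsg.Agent.Lib.Helper60.G23.ChkA2
import Cfsg.Agent.Lib.Helper60.G23.ChkA3

/-! Checks for the tables of `G₂(3)` (generated). -/

set_option autoImplicit false

namespace Cfsg.Agent.Lib.Helper60.G23

open Cfsg.Agent.Lib.Helper60.Cert
open Cfsg.Agent.Lib.Helper60.G2 (model mulP oneP xL1 xL2)

theorem C1ok_step : ∀ j < 728, chkCAll model C1D j = true := by
  intro j hj
  rcases Nat.lt_or_ge j 46 with h0 | h0
  · exact allBelow_off (chkCAll model C1D) 0 46 C1ok_step_0 j (Nat.zero_le j) h0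
  rcases Nat.lt_or_ge j 92 with h1 | h1
  · exact allBelow_off (chkCAll model C1D) 46 46 C1ok_step_1 j h0 h1
  rcases Nat.lt_or_ge j 138 with h2 | h2
  · exact allBelow_off (chkCAll model C1D) 92 46 C1ok_step_2 j h1 h2
  rcases Nat.lt_or_ge j 184 with h3 | h3
  · exact allBelow_off (chkCAll model C1D) 138 46 C1ok_step_3 j h2 h3
  rcases Nat.lt_or_ge j 230 with h4 | h4
  · exact allBelow_off (chkCAll model C1D) 184 46 C1ok_step_4 j h3 h4
  rcases Nat.lt_or_ge j 276 with h5 | h5
  · exact allBelow_off (chkCAll model C1D) 230 46 C1ok_step_5 j h4 h5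
  rcases Nat.lt_or_ge j 322 with h6 | h6
  · exact allBelow_off (chkCAll model C1D) 276 46 C1ok_step_6 j h5 h6
  rcases Nat.lt_or_ge j 368 with h7 | h7
  · exact allBelow_off (chkCAll model C1D) 322 46 C1ok_step_7 j h6 h7
  rcases Nat.lt_or_ge j 414 with h8 | h8
  · exact allBelow_off (chkCAll model C1D) 368 46 C1ok_step_8 j h7 h8
  rcases Nat.lt_or_ge j 460 with h9 | h9
  · exact allBelow_off (chkCAll model C1D) 414 46 C1ok_step_9 j h8 h9
  rcases Nat.lt_or_ge j 506 with h10 | h10
  · exact allBelow_off (chkCAll model C1D) 460 46 C1ok_step_10 j h9 h10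
  rcases Nat.lt_or_ge j 552 with h11 | h11
  · exact allBelow_off (chkCAll model C1D) 506 46 C1ok_step_11 j h10 h11
  rcases Nat.lt_or_ge j 598 with h12 | h12
  · exact allBelow_off (chkCAll model C1D) 552 46 C1ok_step_12 j h11 h12
  rcases Nat.lt_or_ge j 644 with h13 | h13
  · exact allBelow_off (chkCAll model C1D) 598 46 C1ok_step_13 j h12 h13
  rcases Nat.lt_or_ge j 690 with h14 | h14
  · exact allBelow_off (chkCAll model C1D) 644 46 C1ok_step_14 j h13 h14
  exact allBelow_off (chkCAll model C1D) 690 38 C1ok_step_15 j h14 hj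
theorem C1ok_par_0 : allBelow (fun j => chkCPar model C1D (Nat.add 0 j)) 727 = true := by decide +kernel
theorem C1ok_par : ∀ j < 727, chkCPar model C1D j = true := by
  intro j hj
  exact allBelow_off (chkCPar model C1D) 0 727 C1ok_par_0 j (Nat.zero_le j) hj
theorem C2ok_step_0 : allBelow (fun j => chkCAll model C2D (Nat.add 0 j)) 81 = true := by decide +kernel
theorem C2ok_step_1 : allBelow (fun j => chkCAll model C2D (Nat.add 81 j)) 81 = true := by decide +kernel
theorem C2ok_step_2 : allBelow (fun j => chkCAll model C2D (Nat.add 162 j)) 81 = true := by decide +kernel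
theorem C2ok_step : ∀ j < 243, chkCAll model C2D j = true := by
  intro j hj
  rcases Nat.lt_or_ge j 81 with h0 | h0
  · exact allBelow_off (chkCAll model C2D) 0 81 C2ok_step_0 j (Nat.zero_le j) h0
  rcases Nat.lt_or_ge j 162 with h1 | h1
  · exact allBelow_off (chkCAll model C2D) 81 81 C2ok_step_1 j h0 h1
  exact allBelow_off (chkCAll model C2D) 162 81 C2ok_step_2 j h1 hj
theorem C2ok_par_0 : allBelow (fun j => chkCPar model C2D (Nat.add 0 j)) 242 = true := by decide +kernel
theorem C2ok_par : ∀ j < 242, chkCPar model C2D j = true := by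
  intro j hj
  exact allBelow_off (chkCPar model C2D) 0 242 C2ok_par_0 j (Nat.zero_le j) hj
theorem ok_b1_0 : allBelow (fun j => chkB1 jj kk (Nat.add 0 j)) 728 = true := by decide +kernel
theorem ok_b1 : ∀ j < 728, chkB1 jj kk j = true := by
  intro j hj
  exact allBelow_off (chkB1 jj kk) 0 728 ok_b1_0 j (Nat.zero_le j) hj
theorem ok_b2_0 : allBelow (fun j => chkB2 k2 (Nat.add 0 j)) 243 = true := by decide +kernel
theorem ok_b2 : ∀ j < 243, chkB2 k2 j = true := by
  intro j hj
  exact allBelow_off (chkB2 k2) 0 243 ok_b2_0 j (Nat.zero_le j) hj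
theorem ok_fixT13_0 : allBelow (fun j => chkFix 13 TT (Nat.add 0 j)) 24 = true := by decide +kernel
theorem ok_fixT13 : ∀ j < 24, chkFix 13 TT j = true := by
  intro j hj
  exact allBelow_off (chkFix 13 TT) 0 24 ok_fixT13_0 j (Nat.zero_le j) hj
theorem ok_fixT2_0 : allBelow (fun j => chkFix 2 TT (Nat.add 0 j)) 24 = true := by decide +kernel
theorem ok_fixT2 : ∀ j < 24, chkFix 2 TT j = true := by
  intro j hj
  exact allBelow_off (chkFix 2 TT) 0 24 ok_fixT2_0 j (Nat.zero_le j) hj
theorem ok_fixC2_0 : allBelow (fun j => chkFix 13 C2T (Nat.add 0 j)) 243 = true := by decide +kernel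
theorem ok_fixC2 : ∀ j < 243, chkFix 13 C2T j = true := by
  intro j hj
  exact allBelow_off (chkFix 13 C2T) 0 243 ok_fixC2_0 j (Nat.zero_le j) hj
theorem ok_pos1_0 : allBelow (fun j => chkPos ord1 pos1 728 (Nat.add 0 j)) 728 = true := by decide +kernel
theorem ok_pos1 : ∀ j < 728, chkPos ord1 pos1 728 j = true := by
  intro j hj
  exact allBelow_off (chkPos ord1 pos1 728) 0 728 ok_pos1_0 j (Nat.zero_le j) hj
theorem ok_sort1_0 : allBelow (fun j => chkSort 13 C1T ord1 (Nat.add 0 j)) 727 = true := by decide +kernel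
theorem ok_sort1 : ∀ j < 727, chkSort 13 C1T ord1 j = true := by
  intro j hj
  exact allBelow_off (chkSort 13 C1T ord1) 0 727 ok_sort1_0 j (Nat.zero_le j) hj
theorem ok_pos2_0 : allBelow (fun j => chkPos ord2 pos2 243 (Nat.add 0 j)) 243 = true := by decide +kernel
theorem ok_pos2 : ∀ j < 243, chkPos ord2 pos2 243 j = true := by
  intro j hj
  exact allBelow_off (chkPos ord2 pos2 243) 0 243 ok_pos2_0 j (Nat.zero_le j) hj
theorem ok_sort2_0 : allBelow (fun j => chkSort 2 C2T ord2 (Nat.add 0 j)) 242 = true := by decide +kernel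
theorem ok_sort2 : ∀ j < 242, chkSort 2 C2T ord2 j = true := by
  intro j hj
  exact allBelow_off (chkSort 2 C2T ord2) 0 242 ok_sort2_0 j (Nat.zero_le j) hj
theorem ok_root_0 : allBelow (fun j => chkEl C1T C2T TT gR ri rj rk (Nat.add 0 j)) 24 = true := by decide +kernel
theorem ok_root : ∀ j < 24, chkEl C1T C2T TT gR ri rj rk j = true := by
  intro j hj
  exact allBelow_off (chkEl C1T C2T TT gR ri rj rk) 0 24 ok_root_0 j (Nat.zero_le j) hj
theorem ok_inv_0 : allBelow (fun j => chkInv Ggen GgenI (Nat.add 0 j)) 2 = true := by decide +kernel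
theorem ok_inv : ∀ j < 2, chkInv Ggen GgenI j = true := by
  intro j hj
  exact allBelow_off (chkInv Ggen GgenI) 0 2 ok_inv_0 j (Nat.zero_le j) hj
theorem ok_distA_0 : allBelow (fun j => chkDist model TL (Nat.add 0 j)) 24 = true := by decide +kernel
theorem ok_distA : ∀ j < 24, chkDist model TL j = true := by
  intro j hj
  exact allBelow_off (chkDist model TL) 0 24 ok_distA_0 j (Nat.zero_le j) hj

theorem ok_wA : allBelow (fun l => Nat.beq (Ggen l) (model.evalW gR (wA l))) 2 = true := by decide +kernel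
theorem ok_pw : allBelow (fun l => Nat.beq (model.evalW Ggen (pw l)) (Pgen l)) 3 = true := by decide +kernel
theorem ok_T01 : Tgen 0 = Pgen 0 ∧ Tgen 1 = Pgen 1 := by decide +kernel
theorem ok_L6 : Nat.beq (model.evalW Ggen wo6) L6 = true := by decide +kernel
theorem ok_L7 : Nat.beq (model.evalW Ggen wo7) L7 = true := by decide +kernel
theorem ok_L13 : Nat.beq (model.evalW Ggen wo13) L13 = true := by decide +kernel
theorem L6_pow : model.powP L6 6 = oneP := by decide +kernel
theorem L6_ne3 : model.neq (model.powP L6 3) oneP = true := by decide +kernel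
theorem L6_ne2 : model.neq (model.powP L6 2) oneP = true := by decide +kernel
theorem L7_pow : model.powP L7 7 = oneP := by decide +kernel
theorem L7_ne : model.neq L7 oneP = true := by decide +kernel
theorem L13_pow : model.powP L13 13 = oneP := by decide +kernel
theorem L13_ne : model.neq L13 oneP = true := by decide +kernel

theorem C1ok : COK model C1D where
  c0 := by decide +kernel
  npos := by decide
  step := C1ok_step
  par := C1ok_par

theorem C2ok : COK model C2D where
  c0 := by decide +kernel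
  npos := by decide
  step := C2ok_step
  par := C2ok_par

end Cfsg.Agent.Lib.Helper60.G23
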