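import Cfsg.Agent.Lib.Helper60.G23.Data

/-! Checks for the invariant sets of vectors (generated). -/

set_option autoImplicit false

namespace Cfsg.Agent.Lib.Helper60.G23

open Cfsg.Agent.Lib.Helper60.Cert
open Cfsg.Agent.Lib.Helper60.G2 (model mulP oneP xL1 xL2)

theorem ok_actA_0 : allBelow (fun j => chkAct Ggen ptA actA 728 (Nat.add 0 j)) 728 = true := by decide +kernel
theorem ok_actA : ∀ j < 728, chkAct Ggen ptA actA 728 j = true := by
  intro j hj
  exact allBelow_off (chkAct Ggen ptA actA 728) 0 728 ok_actA_0 j (Nat.zero_le j) hj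
theorem ok_posA_0 : allBelow (fun j => chkPos ordA posA 728 (Nat.add 0 j)) 728 = true := by decide +kernel
theorem ok_posA : ∀ j < 728, chkPos ordA posA 728 j = true := by
  intro j hj
  exact allBelow_off (chkPos ordA posA 728) 0 728 ok_posA_0 j (Nat.zero_le j) hj
theorem ok_sortA_0 : allBelow (fun j => chkSortV ptA ordA (Nat.add 0 j)) 727 = true := by decide +kernel
theorem ok_sortA : ∀ j < 727, chkSortV ptA ordA j = true := by
  intro j hj
  exact allBelow_off (chkSortV ptA ordA) 0 727 ok_sortA_0 j (Nat.zero_le j) hj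
theorem ok_maxA : ptA (ordA 727) < 3 ^ 14 := by decide +kernel
theorem ok_actB_0 : allBelow (fun j => chkAct Ggen ptB actB 728 (Nat.add 0 j)) 728 = true := by decide +kernel
theorem ok_actB : ∀ j < 728, chkAct Ggen ptB actB 728 j = true := by
  intro j hj
  exact allBelow_off (chkAct Ggen ptB actB 728) 0 728 ok_actB_0 j (Nat.zero_le j) hj
theorem ok_posB_0 : allBelow (fun j => chkPos ordB posB 728 (Nat.add 0 j)) 728 = true := by decide +kernel
theorem ok_posB : ∀ j < 728, chkPos ordB posB 728 j = true := by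
  intro j hj
  exact allBelow_off (chkPos ordB posB 728) 0 728 ok_posB_0 j (Nat.zero_le j) hj
theorem ok_sortB_0 : allBelow (fun j => chkSortV ptB ordB (Nat.add 0 j)) 727 = true := by decide +kernel
theorem ok_sortB : ∀ j < 727, chkSortV ptB ordB j = true := by
  intro j hj
  exact allBelow_off (chkSortV ptB ordB) 0 727 ok_sortB_0 j (Nat.zero_le j) hj
theorem ok_maxB : ptB (ordB 727) < 3 ^ 14 := by decide +kernel
theorem ok_actC_0 : allBelow (fun j => chkAct Ggen ptC actC 5824 (Nat.add 0 j)) 1500 = true := by decide +kernel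
theorem ok_actC_1 : allBelow (fun j => chkAct Ggen ptC actC 5824 (Nat.add 1500 j)) 1500 = true := by decide +kernel
theorem ok_actC_2 : allBelow (fun j => chkAct Ggen ptC actC 5824 (Nat.add 3000 j)) 1500 = true := by decide +kernel
theorem ok_actC_3 : allBelow (fun j => chkAct Ggen ptC actC 5824 (Nat.add 4500 j)) 1324 = true := by decide +kernel
theorem ok_actC : ∀ j < 5824, chkAct Ggen ptC actC 5824 j = true := by
  intro j hj
  rcases Nat.lt_or_ge j 1500 with h0 | h0
  · exact allBelow_off (chkAct Ggen ptC actC 5824) 0 1500 ok_actC_0 j (Nat.zero_le j) h0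
  rcases Nat.lt_or_ge j 3000 with h1 | h1
  · exact allBelow_off (chkAct Ggen ptC actC 5824) 1500 1500 ok_actC_1 j h0 h1
  rcases Nat.lt_or_ge j 4500 with h2 | h2
  · exact allBelow_off (chkAct Ggen ptC actC 5824) 3000 1500 ok_actC_2 j h1 h2
  exact allBelow_off (chkAct Ggen ptC actC 5824) 4500 1324 ok_actC_3 j h2 hj
theorem ok_posC_0 : allBelow (fun j => chkPos ordC posC 5824 (Nat.add 0 j)) 5824 = true := by decide +kernel
theorem ok_posC : ∀ j < 5824, chkPos ordC posC 5824 j = true := by
  intro j hj
  exact allBelow_off (chkPos ordC posC 5824) 0 5824 ok_posC_0 j (Nat.zero_le j) hj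
theorem ok_sortC_0 : allBelow (fun j => chkSortV ptC ordC (Nat.add 0 j)) 5823 = true := by decide +kernel
theorem ok_sortC : ∀ j < 5823, chkSortV ptC ordC j = true := by
  intro j hj
  exact allBelow_off (chkSortV ptC ordC) 0 5823 ok_sortC_0 j (Nat.zero_le j) hj
theorem ok_maxC : ptC (ordC 5823) < 3 ^ 14 := by decide +kernel
theorem ok_actD_0 : allBelow (fun j => chkAct Ggen ptD actD 702 (Nat.add 0 j)) 702 = true := by decide +kernel
theorem ok_actD : ∀ j < 702, chkAct Ggen ptD actD 702 j = true := by
  intro j hj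
  exact allBelow_off (chkAct Ggen ptD actD 702) 0 702 ok_actD_0 j (Nat.zero_le j) hj
theorem ok_posD_0 : allBelow (fun j => chkPos ordD posD 702 (Nat.add 0 j)) 702 = true := by decide +kernel
theorem ok_posD : ∀ j < 702, chkPos ordD posD 702 j = true := by
  intro j hj
  exact allBelow_off (chkPos ordD posD 702) 0 702 ok_posD_0 j (Nat.zero_le j) hj
theorem ok_sortD_0 : allBelow (fun j => chkSortV ptD ordD (Nat.add 0 j)) 701 = true := by decide +kernel
theorem ok_sortD : ∀ j < 701, chkSortV ptD ordD j = true := by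
  intro j hj
  exact allBelow_off (chkSortV ptD ordD) 0 701 ok_sortD_0 j (Nat.zero_le j) hj
theorem ok_maxD : ptD (ordD 701) < 3 ^ 14 := by decide +kernel

theorem free7A : cntFix L7 ptA 728 = 0 := by decide +kernel
theorem free13A : cntFix L13 ptA 728 = 0 := by decide +kernel
theorem free13B : cntFix L13 ptB 728 = 0 := by decide +kernel
theorem free13C : cntFix L13 ptC 5824 = 0 := by decide +kernel
theorem free13D : cntFix L13 ptD 702 = 0 := by decide +kernel

end Cfsg.Agent.Lib.Helper60.G23
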