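import Cfsg.Agent.Lib.Helper60.G23.ChkF0
import Cfsg.Agent.Lib.Helper60.G23.ChkF1
import Cfsg.Agent.Lib.Helper60.G23.ChkF2
import Cfsg.Agent.Lib.Helper60.G23.ChkF3

/-! Fixed point counts for the Sylow subgroups (generated). -/

set_option autoImplicit false

namespace Cfsg.Agent.Lib.Helper60.G23

open Cfsg.Agent.Lib.Helper60.Cert
open Cfsg.Agent.Lib.Helper60.G2 (model mulP oneP xL1 xL2)

theorem ok_S3 : ∀ j < 728, chkS3 j = true := by
  intro j hj
  rcases Nat.lt_or_ge j 26 with h0 | h0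
  · exact allBelow_off (chkS3) 0 26 ok_S3_0 j (Nat.zero_le j) h0
  rcases Nat.lt_or_ge j 52 with h1 | h1
  · exact allBelow_off (chkS3) 26 26 ok_S3_1 j h0 h1
  rcases Nat.lt_or_ge j 78 with h2 | h2
  · exact allBelow_off (chkS3) 52 26 ok_S3_2 j h1 h2
  rcases Nat.lt_or_ge j 104 with h3 | h3
  · exact allBelow_off (chkS3) 78 26 ok_S3_3 j h2 h3
  rcases Nat.lt_or_ge j 130 with h4 | h4
  · exact allBelow_off (chkS3) 104 26 ok_S3_4 j h3 h4
  rcases Nat.lt_or_ge j 156 with h5 | h5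
  · exact allBelow_off (chkS3) 130 26 ok_S3_5 j h4 h5
  rcases Nat.lt_or_ge j 182 with h6 | h6
  · exact allBelow_off (chkS3) 156 26 ok_S3_6 j h5 h6
  rcases Nat.lt_or_ge j 208 with h7 | h7
  · exact allBelow_off (chkS3) 182 26 ok_S3_7 j h6 h7
  rcases Nat.lt_or_ge j 234 with h8 | h8
  · exact allBelow_off (chkS3) 208 26 ok_S3_8 j h7 h8
  rcases Nat.lt_or_ge j 260 with h9 | h9
  · exact allBelow_off (chkS3) 234 26 ok_S3_9 j h8 h9
  rcases Nat.lt_or_ge j 286 with h10 | h10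
  · exact allBelow_off (chkS3) 260 26 ok_S3_10 j h9 h10
  rcases Nat.lt_or_ge j 312 with h11 | h11
  · exact allBelow_off (chkS3) 286 26 ok_S3_11 j h10 h11
  rcases Nat.lt_or_ge j 338 with h12 | h12
  · exact allBelow_off (chkS3) 312 26 ok_S3_12 j h11 h12
  rcases Nat.lt_or_ge j 364 with h13 | h13
  · exact allBelow_off (chkS3) 338 26 ok_S3_13 j h12 h13
  rcases Nat.lt_or_ge j 390 with h14 | h14
  · exact allBelow_off (chkS3) 364 26 ok_S3_14 j h13 h14
  rcases Nat.lt_or_ge j 416 with h15 | h15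
  · exact allBelow_off (chkS3) 390 26 ok_S3_15 j h14 h15
  rcases Nat.lt_or_ge j 442 with h16 | h16
  · exact allBelow_off (chkS3) 416 26 ok_S3_16 j h15 h16
  rcases Nat.lt_or_ge j 468 with h17 | h17
  · exact allBelow_off (chkS3) 442 26 ok_S3_17 j h16 h17
  rcases Nat.lt_or_ge j 494 with h18 | h18
  · exact allBelow_off (chkS3) 468 26 ok_S3_18 j h17 h18
  rcases Nat.lt_or_ge j 520 with h19 | h19
  · exact allBelow_off (chkS3) 494 26 ok_S3_19 j h18 h19
  rcases Nat.lt_or_ge j 546 with h20 | h20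
  · exact allBelow_off (chkS3) 520 26 ok_S3_20 j h19 h20
  rcases Nat.lt_or_ge j 572 with h21 | h21
  · exact allBelow_off (chkS3) 546 26 ok_S3_21 j h20 h21
  rcases Nat.lt_or_ge j 598 with h22 | h22
  · exact allBelow_off (chkS3) 572 26 ok_S3_22 j h21 h22
  rcases Nat.lt_or_ge j 624 with h23 | h23
  · exact allBelow_off (chkS3) 598 26 ok_S3_23 j h22 h23
  rcases Nat.lt_or_ge j 650 with h24 | h24
  · exact allBelow_off (chkS3) 624 26 ok_S3_24 j h23 h24
  rcases Nat.lt_or_ge j 676 with h25 | h25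
  · exact allBelow_off (chkS3) 650 26 ok_S3_25 j h24 h25
  rcases Nat.lt_or_ge j 702 with h26 | h26
  · exact allBelow_off (chkS3) 676 26 ok_S3_26 j h25 h26
  exact allBelow_off (chkS3) 702 26 ok_S3_27 j h26 hj
theorem ok_S2_0 : allBelow (fun j => chkS2 (Nat.add 0 j)) 63 = true := by decide +kernel
theorem ok_S2 : ∀ j < 63, chkS2 j = true := by
  intro j hj
  exact allBelow_off (chkS2) 0 63 ok_S2_0 j (Nat.zero_le j) hj
theorem ok_S7_0 : allBelow (fun j => chkS7 (Nat.add 0 j)) 6 = true := by decide +kernel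
theorem ok_S7 : ∀ j < 6, chkS7 j = true := by
  intro j hj
  exact allBelow_off (chkS7) 0 6 ok_S7_0 j (Nat.zero_le j) hj
theorem ok_sift_0 : allBelow (fun j => chkEl C1T C2T TT Sgen si sj sk (Nat.add 0 j)) 3 = true := by decide +kernel
theorem ok_sift : ∀ j < 3, chkEl C1T C2T TT Sgen si sj sk j = true := by
  intro j hj
  exact allBelow_off (chkEl C1T C2T TT Sgen si sj sk) 0 3 ok_sift_0 j (Nat.zero_le j) hj
theorem ok_U0 : Ugen 0 = gR 6 ∧ Ugen 1 = gR 7 ∧ Ugen 2 = gR 8 := by decide +kernel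
theorem ok_Q0 : Qgen 0 = L7 := by decide +kernel

end Cfsg.Agent.Lib.Helper60.G23
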